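import Mathlib
import Groth.Agent.Lib.FieldExtra.Insep

/-!
# Primes of the base change of a function field along a Galois extension
-/

set_option autoImplicit false
set_option linter.style.haveILetI false

universe u

open TensorProduct

namespace GrothLib.GalPrimes

/-- Two embeddings of a normal extension differ by an automorphism. -/
theorem exists_comp_eq {K L S : Type u} [Field K] [Field L] [Field S] [Algebra K L] [Algebra K S] [Normal K L]
    (φ₁ φ₂ : L →ₐ[K] S) : ∃ γ : L ≃ₐ[K] L, φ₁.comp (γ : L →ₐ[K] L) = φ₂ := by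
  have hmem : ∀ l, φ₂ l ∈ φ₁.range := fun l => by
    have hs := (Normal.splits (F := K) inferInstance l)
    have h0 : ((minpoly K l).map (algebraMap K L)) ≠ 0 :=
      Polynomial.map_ne_zero (minpoly.ne_zero (Normal.isIntegral (F := K) inferInstance l))
    have hr : Polynomial.IsRoot (((minpoly K l).map (algebraMap K L)).map (φ₁ : L →+* S)) (φ₂ l) := by
      rw [Polynomial.map_map, show (φ₁ : L →+* S).comp (algebraMap K L) = algebraMap K S from φ₁.comp_algebraMap,
        Polynomial.IsRoot, Polynomial.eval_map, ← Polynomial.aeval_def, Polynomial.aeval_algHom_apply,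
        minpoly.aeval, map_zero]
    exact Polynomial.Splits.mem_range_of_isRoot hs h0 hr
  let e := AlgEquiv.ofInjective φ₁ φ₁.toRingHom.injective
  let g : L →ₐ[K] L := e.symm.toAlgHom.comp (φ₂.codRestrict φ₁.range hmem)
  refine ⟨AlgEquiv.ofBijective g (Algebra.IsAlgebraic.algHom_bijective g), AlgHom.ext fun l => ?_⟩
  show φ₁ (e.symm (φ₂.codRestrict φ₁.range hmem l)) = φ₂ l
  exact congrArg Subtype.val (e.apply_symm_apply (φ₂.codRestrict φ₁.range hmem l))

variable (K F L : Type u) [Field K] [Field F] [Field L] [Algebra K F] [Algebra K L]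

/-- The point attached to an embedding into the separable closure. -/
noncomputable abbrev Phi (φ : L →ₐ[K] SeparableClosure F) : F ⊗[K] L →ₐ[F] SeparableClosure F :=
  Algebra.TensorProduct.lift (Algebra.ofId F (SeparableClosure F)) φ fun _ _ => Commute.all _ _

variable {K F L}

theorem Phi_comp_map (φ : L →ₐ[K] SeparableClosure F) (γ : L →ₐ[K] L) (t : F ⊗[K] L) :
    Phi K F L (φ.comp γ) t = Phi K F L φ (Algebra.TensorProduct.map (AlgHom.id K F) γ t) := by
  induction t using TensorProduct.induction_on with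
  | zero => simp
  | tmul a b => simp
  | add a b ha hb => simp only [map_add, ha, hb]

theorem exists_ker_eq [Algebra.IsSeparable K L] (P : PrimeSpectrum (F ⊗[K] L)) :
    ∃ φ : L →ₐ[K] SeparableClosure F, P.asIdeal = RingHom.ker (Phi K F L φ) := by
  let Ω := (F ⊗[K] L) ⧸ P.asIdeal
  haveI : Algebra.IsIntegral K L := Algebra.IsAlgebraic.isIntegral
  haveI hint : Algebra.IsIntegral F (F ⊗[K] L) := inferInstance
  haveI : Algebra.IsIntegral F Ω :=
    ⟨fun x => by
      obtain ⟨y, rfl⟩ := Ideal.Quotient.mk_surjective x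
      exact (hint.isIntegral y).map (Ideal.Quotient.mkₐ F P.asIdeal)⟩
  letI : Field Ω := (isField_of_isIntegral_of_isField' (R := F) (S := Ω) (Field.toIsField F)).toField
  let q : L →ₐ[K] Ω := ((Ideal.Quotient.mkₐ F P.asIdeal).restrictScalars K).comp Algebra.TensorProduct.includeRight
  have hsep : Algebra.IsSeparable F Ω := by
    refine ⟨fun x => ?_⟩
    obtain ⟨y, rfl⟩ := Ideal.Quotient.mk_surjective x
    refine mem_separableClosure_iff.1 ?_
    induction y using TensorProduct.induction_on with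
    | zero => rw [map_zero]; exact zero_mem _
    | tmul a b =>
      have h : Ideal.Quotient.mk P.asIdeal (a ⊗ₜ[K] b) = algebraMap F Ω a * q b := by
        show _ = Ideal.Quotient.mk P.asIdeal (algebraMap F (F ⊗[K] L) a) * Ideal.Quotient.mk P.asIdeal (1 ⊗ₜ b)
        rw [← map_mul, Algebra.TensorProduct.algebraMap_apply, Algebra.TensorProduct.tmul_mul_tmul, mul_one, one_mul]
        rfl
      rw [h]
      refine mul_mem (algebraMap_mem _ a) (mem_separableClosure_iff.2 ?_)
      exact IsSeparable.tower_top (L := F) (by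
        show Polynomial.Separable (minpoly K (q b))
        rw [minpoly.algHom_eq q (RingHom.injective q.toRingHom)]
        exact Algebra.IsSeparable.isSeparable K b)
    | add a b ha hb => rw [map_add]; exact add_mem ha hb
  let j : Ω →ₐ[F] SeparableClosure F := IsSepClosed.lift
  refine ⟨(j.restrictScalars K).comp q, ?_⟩
  have h : Phi K F L ((j.restrictScalars K).comp q) = j.comp (Ideal.Quotient.mkₐ F P.asIdeal) := by
    refine Algebra.TensorProduct.ext' fun a b => ?_
    have h1 : a ⊗ₜ[K] b = algebraMap F (F ⊗[K] L) a * (1 ⊗ₜ b) := by simp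
    conv_rhs => rw [h1, map_mul, AlgHom.commutes]
    simp [q, Phi]
    exact Or.inl rfl
  rw [h]
  ext x
  rw [RingHom.mem_ker, AlgHom.comp_apply]
  refine Iff.trans ?_ (map_eq_zero_iff j (RingHom.injective j.toRingHom)).symm
  exact Ideal.Quotient.eq_zero_iff_mem.symm

theorem exists_aut [IsGalois K L] (P Q : PrimeSpectrum (F ⊗[K] L)) :
    ∃ γ : L ≃ₐ[K] L, Q.asIdeal = P.asIdeal.comap (Algebra.TensorProduct.map (AlgHom.id K F) (γ : L →ₐ[K] L)) := by
  obtain ⟨φ₁, h₁⟩ := exists_ker_eq P
  obtain ⟨φ₂, h₂⟩ := exists_ker_eq Q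
  obtain ⟨γ, hγ⟩ := exists_comp_eq φ₁ φ₂
  refine ⟨γ, ?_⟩
  ext t
  rw [h₂, h₁, Ideal.mem_comap, RingHom.mem_ker, RingHom.mem_ker, ← hγ, Phi_comp_map]

variable (φ₀ : L →ₐ[K] SeparableClosure F)

/-- Elements of `L` sent into `F`. -/
noncomputable def base : IntermediateField K L :=
  ((IntermediateField.restrictScalars K (⊥ : IntermediateField F (SeparableClosure F)))).comap φ₀

theorem mem_base {x : L} : x ∈ base φ₀ ↔ φ₀ x ∈ Set.range (algebraMap F (SeparableClosure F)) :=
  IntermediateField.mem_bot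

/-- An automorphism fixing `base φ₀` is induced by an `F`-automorphism on each finite Galois subextension. -/
theorem exists_lift [IsGalois K L] (M : IntermediateField K L) [FiniteDimensional K M] [IsGalois K M]
    (δ : L ≃ₐ[K] L) (hδ : ∀ x ∈ base φ₀, δ x = x) :
    ∃ τ : SeparableClosure F ≃ₐ[F] SeparableClosure F, ∀ x ∈ M, τ (φ₀ x) = φ₀ (δ x) := by
  let ι : M →ₐ[K] SeparableClosure F := φ₀.comp M.val
  let H : Subgroup (M ≃ₐ[K] M) :=
    { carrier := {h | ∃ τ : SeparableClosure F ≃ₐ[F] SeparableClosure F, ∀ x : M, τ (ι x) = ι (h x)}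
      one_mem' := ⟨1, fun x => rfl⟩
      mul_mem' := by
        rintro h h' ⟨τ, hτ⟩ ⟨τ', hτ'⟩
        refine ⟨τ * τ', fun x => ?_⟩
        show τ (τ' (ι x)) = ι (h (h' x))
        rw [hτ', hτ]
      inv_mem' := by
        rintro h ⟨τ, hτ⟩
        refine ⟨τ⁻¹, fun x => τ.injective ?_⟩
        rw [hτ]
        show τ (τ.symm (ι x)) = ι (h (h.symm x))
        rw [τ.apply_symm_apply, h.apply_symm_apply] }
  have hfix : ∀ x ∈ IntermediateField.fixedField H, (x : L) ∈ base φ₀ := by
    intro x hx
    rw [mem_base]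
    refine (InfiniteGalois.mem_range_algebraMap_iff_fixed _).2 fun τ => ?_
    obtain ⟨h, hh⟩ := exists_comp_eq ι ((τ.toAlgHom.restrictScalars K).comp ι)
    have hH : h ∈ H := ⟨τ, fun y => (AlgHom.congr_fun hh y).symm⟩
    have h0 : τ (ι x) = ι (h x) := (AlgHom.congr_fun hh x).symm
    exact h0.trans (congrArg ι (hx ⟨h, hH⟩))
  let d : M ≃ₐ[K] M := δ.restrictNormal M
  have hd : ∀ x : M, (d x : L) = δ x := fun x => AlgEquiv.restrictNormal_commutes δ M x
  have hmem : d ∈ H := by
    rw [← IntermediateField.fixingSubgroup_fixedField H]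
    intro x
    exact Subtype.ext ((hd x.1).trans (hδ _ (hfix x.1 x.2)))
  obtain ⟨τ, hτ⟩ := hmem
  exact ⟨τ, fun x hx => (hτ ⟨x, hx⟩).trans (congrArg φ₀ (hd ⟨x, hx⟩))⟩

theorem ker_Phi_comp [IsGalois K L] (δ : L ≃ₐ[K] L) (hδ : ∀ x ∈ base φ₀, δ x = x) :
    RingHom.ker (Phi K F L (φ₀.comp (δ : L →ₐ[K] L))) = RingHom.ker (Phi K F L φ₀) := by
  classical
  ext t
  obtain ⟨S, hS⟩ := TensorProduct.exists_finset t
  let M := (FiniteGaloisIntermediateField.adjoin K (↑(S.image Prod.snd) : Set L))
  obtain ⟨τ, hτ⟩ := exists_lift φ₀ M.toIntermediateField δ hδ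
  have h : Phi K F L (φ₀.comp (δ : L →ₐ[K] L)) t = τ (Phi K F L φ₀ t) := by
    rw [hS, map_sum, map_sum, map_sum]
    refine Finset.sum_congr rfl fun i hi => ?_
    have hi' : i.2 ∈ M.toIntermediateField := FiniteGaloisIntermediateField.subset_adjoin K _
      (Finset.mem_coe.2 (Finset.mem_image_of_mem _ hi))
    simp [Phi, hτ _ hi']
  rw [RingHom.mem_ker, RingHom.mem_ker, h, map_eq_zero_iff _ τ.injective]

theorem finiteDimensional_base [Algebra.IsSeparable K L] (hF : (⊤ : IntermediateField K F).FG) :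
    FiniteDimensional K (base φ₀) := by
  haveI := GrothLib.FieldExtra.finiteDimensional_algebraicClosure hF
  choose g hg using fun x : base φ₀ => (mem_base φ₀).1 x.2
  have halg : ∀ x, g x ∈ algebraicClosure K F := fun x => by
    rw [mem_algebraicClosure_iff]
    have h : IsAlgebraic K (φ₀ (x : L)) := ((Algebra.IsAlgebraic.isAlgebraic (x : L)).algHom φ₀)
    rw [← hg x] at h
    exact (isAlgebraic_algHom_iff (IsScalarTower.toAlgHom K F (SeparableClosure F))
      (algebraMap F (SeparableClosure F)).injective).1 h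
  let f : base φ₀ →ₗ[K] algebraicClosure K F :=
    { toFun := fun x => ⟨g x, halg x⟩
      map_add' := fun x y => Subtype.ext ((algebraMap F (SeparableClosure F)).injective (by simp [hg]))
      map_smul' := fun c x => Subtype.ext ((algebraMap F (SeparableClosure F)).injective (by
        simp [hg, Algebra.smul_def, ← IsScalarTower.algebraMap_apply])) }
  refine Module.Finite.of_injective f fun x y h => Subtype.ext (φ₀.toRingHom.injective ?_)
  show φ₀ x = φ₀ y
  rw [← hg x, ← hg y, show g x = g y from congrArg Subtype.val h]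

theorem finite_primes [IsGalois K L] (hF : (⊤ : IntermediateField K F).FG) :
    Finite (PrimeSpectrum (F ⊗[K] L)) := by
  rcases isEmpty_or_nonempty (PrimeSpectrum (F ⊗[K] L)) with _ | ⟨⟨P⟩⟩
  · infer_instance
  obtain ⟨φ₀, hP⟩ := exists_ker_eq P
  haveI := finiteDimensional_base φ₀ hF
  haveI : Finite (base φ₀ →ₐ[K] L) := inferInstance
  choose γ hγ using fun Q => exists_aut P Q
  refine Finite.of_injective (fun Q => (((γ Q).symm : L →ₐ[K] L).comp (base φ₀).val)) fun Q Q' h => ?_
  refine PrimeSpectrum.ext ?_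
  let δ : L ≃ₐ[K] L := (γ Q').symm.trans (γ Q)
  have hδ : ∀ x ∈ base φ₀, δ x = x := fun x hx => by
    have h1 := AlgHom.congr_fun h ⟨x, hx⟩
    show γ Q ((γ Q').symm x) = x
    exact (congrArg (γ Q) h1.symm).trans ((γ Q).apply_symm_apply x)
  ext t
  have e : (φ₀.comp (δ : L →ₐ[K] L)).comp (γ Q' : L →ₐ[K] L) = φ₀.comp (γ Q : L →ₐ[K] L) := by
    ext l; simp [δ]
  rw [hγ Q, hγ Q', Ideal.mem_comap, Ideal.mem_comap, hP]
  have hk := SetLike.ext_iff.1 (ker_Phi_comp φ₀ δ hδ)
    (Algebra.TensorProduct.map (AlgHom.id K F) (γ Q' : L →ₐ[K] L) t)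
  rw [RingHom.mem_ker, RingHom.mem_ker, ← Phi_comp_map, e, Phi_comp_map] at hk
  exact hk

end GrothLib.GalPrimes
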